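import Groth.Agent.Lib.EtPicIso26.Basic
import Groth.Agent.Lib.EtTrace21.H90Push

/-!
# `H¹` of `𝔾ₘ` on discrete schemes and first higher direct images
-/

set_option autoImplicit false
set_option backward.isDefEq.respectTransparency false
set_option backward.isDefEq.respectTransparency.types false
set_option linter.style.haveILetI false
set_option linter.all false

universe u

open CategoryTheory CategoryTheory.Limits CategoryTheory.Abelian AlgebraicGeometry Opposite TopologicalSpace
open GrothLib.EtSite GrothLib.EtTrace21 GrothLib.EtPic2 GrothLib.EtPicIso26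

noncomputable section

namespace GrothLib.CdOne18

/-- On a discrete scheme `H¹` of the multiplicative group vanishes. -/
theorem subsingleton_H_one_Gm_discrete (Y : Scheme.{u}) [DiscreteTopology Y] :
    Subsingleton (EtCoh.H Y (EtCoh.Gm Y) 1) := by
  let S := injS (EtCoh.Gm Y)
  haveI : Injective S.X₂ := inferInstanceAs (Injective (Injective.under _))
  refine subsingleton_H_one_of_lift (S := S) (injS_shortExact _) fun s => ?_
  choose U z hxU hz using exists_lift_open s
  let D : Y → Y.Opens := fun y => ⟨{y}, isOpen_discrete _⟩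
  have hD : ∀ y, D y ≤ U y := fun y w hw => (show w = y from hw) ▸ hxU y
  obtain ⟨a, ha⟩ := exists_glue_open S.X₂ D (fun y => ⟨y, rfl⟩) (fun y => rs _ (hD y) (z y)) fun i k => by
    rcases eq_or_ne i k with rfl | hne
    · rfl
    · haveI : IsEmpty (opU (D i ⊓ D k)).left := ⟨fun (w : ↥(D i ⊓ D k)) => hne (w.2.1.symm.trans w.2.2)⟩
      exact sect_ext S.X₂ (α := PEmpty.{1}) (fun e => e.elim) (fun e => e.elim) isEmptyElim fun e => e.elim
  refine ⟨a, sect_ext S.X₃ (W := EtCoh.top Y) (fun y => opU (D y))
    (fun y => (EtCore.topIsTerminal Y).from _) (fun y => ?_) fun y => ?_⟩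
  · refine ⟨y, (⟨y, rfl⟩ : D y), ?_⟩
    rw [show ((EtCore.topIsTerminal Y).from (opU (D y))).left = (D y).ι from
      (Category.comp_id _).symm.trans (MorphismProperty.Over.w ((EtCore.topIsTerminal Y).from (opU (D y))))]
    rfl
  · change glob S.X₃ (D y) (S.g.hom.app _ a) = glob S.X₃ (D y) s
    refine ((nat_glob S.g (D y) a).symm.trans ?_)
    rw [ha y, nat_rs]
    exact (congrArg (rs S.X₃ (hD y)) (hz y)).trans (rs_glob _ _ _)

/-- A section of the quotient over an étale scheme lifts when its restriction has no `H¹`. -/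
theorem exists_lift_sect_of_H_one {X : Scheme.{u}} {S : ShortComplex (EtCoh.Ab X)} (hS : S.ShortExact) (W : X.Etale)
    [Etale W.hom] [EtShriek.JCont W.hom]
    (h : Subsingleton (EtCoh.H W.left ((EtShriek.restrAlong W.hom).obj S.X₁) 1)) (s : EtCoh.sect S.X₃ W) :
    ∃ z, S.g.hom.app (op W) z = s := by
  let j : W.left ⟶ X := W.hom
  haveI : Etale j := ‹Etale W.hom›
  haveI : EtShriek.JCont j := ‹EtShriek.JCont W.hom›
  haveI := GrothLib.EtDer.pullFL j
  haveI : PreservesFiniteLimits (EtShriek.restrAlong j) :=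
    preservesFiniteLimits_of_natIso (GrothLib.ExtZero.restrIsoPull j).symm
  haveI : PreservesFiniteColimits (EtShriek.restrAlong j) :=
    preservesFiniteColimits_of_natIso (GrothLib.ExtZero.restrIsoPull j).symm
  haveI : (EtShriek.restrAlong j).Additive := Functor.additive_of_preserves_binary_products _
  have hT : (S.map (EtShriek.restrAlong j)).ShortExact := hS.map_of_exact _
  let tp := EtCoh.top W.left
  let g : (EtShriek.compEtale j).obj tp ⟶ W := MorphismProperty.Over.homMk (𝟙 _) rfl
  let g' : W ⟶ (EtShriek.compEtale j).obj tp := MorphismProperty.Over.homMk (𝟙 _) (by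
    change 𝟙 _ ≫ 𝟙 _ ≫ W.hom = W.hom
    simp)
  have hg : g' ≫ g = 𝟙 W := MorphismProperty.Over.Hom.ext (Category.id_comp _)
  obtain ⟨z, hz⟩ := EtPic2.exists_lift_top hT h (S.X₃.obj.map g.op s : EtCoh.sect ((EtShriek.restrAlong j).obj S.X₃) tp)
  refine ⟨S.X₂.obj.map g'.op (z : EtCoh.sect ((EtShriek.restrAlong j).obj S.X₂) tp), ?_⟩
  refine (NatTrans.naturality_apply S.g.hom g'.op _).trans ((congrArg (S.X₃.obj.map g'.op) hz).trans ?_)
  rw [← ConcreteCategory.comp_apply, ← Functor.map_comp, ← op_comp, hg, op_id, CategoryTheory.Functor.map_id]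
  rfl

/-- A criterion for vanishing of the first higher direct image of the multiplicative group. -/
theorem isZero_Rpush_one_Gm_of_discrete {A X : Scheme.{u}} (f : A ⟶ X)
    (h : ∀ W : A.Etale, DiscreteTopology W.left) : IsZero ((EtCoh.Rpush f 1).obj (EtCoh.Gm A)) := by
  let S := injS (EtCoh.Gm A)
  have hS := injS_shortExact (EtCoh.Gm A)
  haveI : Injective S.X₂ := inferInstanceAs (Injective (Injective.under _))
  haveI : PreservesFiniteLimits (EtCoh.push f) :=
    ((EtCoh.pullPushAdj f).rightAdjoint_preservesLimits : PreservesLimitsOfSize.{0, 0} _).preservesFiniteLimits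
  haveI : Sheaf.IsLocallySurjective ((EtCoh.push f).map S.g) := by
    constructor
    intro U s
    let W := (EtCoh.bc f).obj U
    haveI : Etale W.hom := W.prop
    haveI := GrothLib.Constructible.jcont W.hom
    haveI := h W
    obtain ⟨e⟩ := restrAlong_Gm W.hom
    obtain ⟨z, hz⟩ := exists_lift_sect_of_H_one hS W ⟨fun a b => by
      apply ((EtCoh.HF _ 1).mapIso e).addCommGroupIsoToAddEquiv.injective
      exact (subsingleton_H_one_Gm_discrete W.left).elim _ _⟩ s
    refine GrothendieckTopology.superset_covering _ ?_ (GrothendieckTopology.top_mem _ _)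
    intro V g _
    exact ⟨((EtCoh.push f).obj S.X₂).obj.map g.op z,
      (NatTrans.naturality_apply ((EtCoh.push f).map S.g).hom g.op z).trans (congrArg _ hz)⟩
  haveI : Epi ((EtCoh.push f).map S.g) := (Sheaf.isLocallySurjective_iff_epi' _ _).1 inferInstance
  exact IsZero.of_iso (isZero_cokernel_of_epi _) (GrothLib.HomGamma.shiftIsoOne hS (EtCoh.push f))

end GrothLib.CdOne18
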