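import Groth.Agent.Lib.CdBr2.MaxPt
import Groth.Agent.Lib.AlgSp.PointProps

/-!
# Units near a maximal point of a noetherian scheme and units of its local ring
-/

set_option autoImplicit false
set_option backward.isDefEq.respectTransparency false
set_option backward.isDefEq.respectTransparency.types false
set_option linter.style.haveILetI false
set_option linter.all false

universe u

open CategoryTheory CategoryTheory.Limits AlgebraicGeometry Opposite
open GrothLib.EtSite GrothLib.EtTrace21 GrothLib.GalCd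

noncomputable section

namespace GrothLib.CdOne18

variable {X : Scheme.{u}} (x : X)

/-- The local scheme at a maximal point is one point. -/
theorem subsingleton_specStalk (hx : ∀ y, y ⤳ x → y = x) : Subsingleton ↥(Spec (X.presheaf.stalk x)) := by
  refine ⟨fun a b => (X.fromSpecStalk x).isEmbedding.injective ?_⟩
  have h : ∀ c, (X.fromSpecStalk x).base c = x := fun c => by
    have hc : (X.fromSpecStalk x).base c ∈ Set.range (X.fromSpecStalk x).base := ⟨c, rfl⟩
    rw [Scheme.range_fromSpecStalk] at hc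
    exact hx _ hc
  exact (h a).trans (h b).symm

theorem fromSpecStalk_base (hx : ∀ y, y ⤳ x → y = x) (a : ↥(Spec (X.presheaf.stalk x))) :
    (X.fromSpecStalk x).base a = x := by
  have h : (X.fromSpecStalk x).base a ∈ Set.range (X.fromSpecStalk x).base := ⟨a, rfl⟩
  rw [Scheme.range_fromSpecStalk] at h
  exact hx _ h

theorem isZero_stalk_push_specStalk (hx : ∀ y, y ⤳ x → y = x) {Ω : Type u} [Field Ω] [IsSepClosed Ω]
    (ξ : Spec (CommRingCat.of Ω) ⟶ X) (hξ : ¬ x ⤳ ξ.base (default : Spec (CommRingCat.of Ω)))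
    (G : EtCoh.Ab (Spec (X.presheaf.stalk x))) :
    IsZero ((EtCoh.stalk ξ).obj ((EtCoh.push (X.fromSpecStalk x)).obj G)) := by
  refine stalk_isZero_of_nhds _ ξ ⟨(closure ({x} : Set X))ᶜ, isClosed_closure.isOpen_compl⟩
    (fun h => hξ (specializes_iff_mem_closure.2 h)) fun U hU => ?_
  haveI : IsEmpty ((EtCoh.bc (X.fromSpecStalk x)).obj U).left := ⟨fun p => by
    let p : ↥(pullback U.hom (X.fromSpecStalk x)) := p
    refine hU (pullback.fst U.hom (X.fromSpecStalk x) p) ?_
    rw [← Scheme.Hom.comp_apply, pullback.condition, Scheme.Hom.comp_apply]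
    erw [fromSpecStalk_base x hx]
    exact subset_closure rfl⟩
  exact subsingleton_sect_of_isEmpty G _

variable [AlgebraicGeometry.IsNoetherian X]

/-- An etale neighbourhood whose fibre over the local scheme is one point. -/
theorem exists_fibre_subsingleton' (hx : ∀ y, y ⤳ x → y = x) {V : X.Etale} (v : V.left) (hvx : V.hom.base v = x) :
    ∃ O : V.left.Opens, v ∈ O ∧
      Subsingleton ((EtCoh.bc (X.fromSpecStalk x)).obj (opensObj V O)).left := by
  obtain ⟨O, hvO, hS, hN⟩ := CdBr2.exists_fibre_subsingleton x hx v hvx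
  refine ⟨O, hvO, ⟨fun a a' => ?_⟩⟩
  let f : V.left ⟶ X := V.hom
  let q := pullback.fst (O.ι ≫ f) (X.fromSpecStalk x)
  let q' := pullback.fst (O.ι ≫ f) (X.fromSpecResidueField x)
  have hpt : ∀ a, f.base (q.base a).1 = x := fun a => by
    have e : q ≫ O.ι ≫ f = pullback.snd (O.ι ≫ f) (X.fromSpecStalk x) ≫ X.fromSpecStalk x :=
      pullback.condition
    exact (congrArg (fun r => r.base a) e).trans (fromSpecStalk_base x hx _)
  have hlift : ∀ a, ∃ b, q'.base b = q.base a := fun a => by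
    obtain ⟨b, hb, -⟩ := Scheme.Pullback.exists_preimage_pullback (f := O.ι ≫ f) (g := X.fromSpecResidueField x)
      (q.base a) default ((hpt a).trans (Scheme.fromSpecResidueField_apply x _).symm)
    exact ⟨b, hb⟩
  haveI : IsPreimmersion q := MorphismProperty.pullback_fst (P := @IsPreimmersion) _ _ inferInstance
  apply q.isEmbedding.injective
  obtain ⟨b, hb⟩ := hlift a
  obtain ⟨b', hb'⟩ := hlift a'
  rw [← hb, ← hb', Subsingleton.elim (h := hS) b b']

/-- The units near a maximal point are those of the local scheme. -/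
theorem bijective_stalk_GmPush (hx : ∀ y, y ⤳ x → y = x) {Ω : Type u} [Field Ω] [IsSepClosed Ω]
    (ξ : Spec (CommRingCat.of Ω) ⟶ X) (hξ : ξ.base (default : Spec (CommRingCat.of Ω)) = x) :
    Function.Bijective ((EtCoh.stalk ξ).map (EtLim.GmPush (X.fromSpecStalk x))) := by
  let j := X.fromSpecStalk x
  haveI : Flat j := GrothLib.FEt21.flat_fromSpecStalk x
  refine ⟨(injective_iff_map_eq_zero ((EtCoh.stalk ξ).map (EtLim.GmPush j)).hom).2 fun y hy => ?_, fun y => ?_⟩
  · obtain ⟨V, t, s, rfl⟩ := exists_germ ξ _ y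
    rw [stalk_map_germ] at hy
    obtain ⟨V', m, v, hv, hm⟩ := eq_zero_nhd ξ _ t _ hy
    obtain ⟨t', ht', ht'v⟩ := GrothLib.EtBasicB.exists_fib_lift ξ m t v hv
    rw [← ht', ← germ_map]
    let s' : EtCoh.sect (EtCoh.Gm X) V' := (EtCoh.Gm X).obj.map m.op s
    have hs' : (EtLim.GmPush j).hom.app (op V') s' = 0 :=
      (NatTrans.naturality_apply (EtLim.GmPush j).hom m.op s).trans hm
    let a : Γ(V'.left, ⊤) := ((Additive.toMul (show ULift.{u + 1} (Additive (Γ(V'.left, ⊤) : Type u)ˣ) from s').down : _ˣ) : Γ(V'.left, ⊤))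
    let q : ((EtCoh.bc j).obj V').left ⟶ V'.left := pullback.fst V'.hom j
    have hqa : q.appTop.hom a = 1 :=
      congrArg (fun r : ULift.{u + 1} (Additive (Γ(((EtCoh.bc j).obj V').left, ⊤) : Type u)ˣ) =>
        ((Additive.toMul r.down : _ˣ) : Γ(((EtCoh.bc j).obj V').left, ⊤))) hs'
    have hvx : V'.hom.base v = x := by
      rw [← ht'v]
      exact (preimage_default ξ t').trans hξ
    obtain ⟨w, hw, -⟩ := Scheme.Pullback.exists_preimage_pullback (f := V'.hom) (g := j) v
      (IsLocalRing.closedPoint (X.presheaf.stalk x)) (hvx.trans Scheme.fromSpecStalk_closedPoint.symm)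
    subst hw
    haveI : Flat q := MorphismProperty.pullback_fst (P := @Flat) _ _ inferInstance
    have hinj : Function.Injective (q.stalkMap w).hom := by
      algebraize [(q.stalkMap w).hom]
      haveI : IsLocalHom (algebraMap (V'.left.presheaf.stalk (q.base w)) (((EtCoh.bc j).obj V').left.presheaf.stalk w)) :=
        q.toLRSHom.prop w
      haveI : Module.Flat (V'.left.presheaf.stalk (q.base w)) (((EtCoh.bc j).obj V').left.presheaf.stalk w) :=
        Flat.stalkMap q w
      haveI := Module.FaithfullyFlat.of_flat_of_isLocalHom (A := (V'.left.presheaf.stalk (q.base w)))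
        (B := (((EtCoh.bc j).obj V').left.presheaf.stalk w))
      exact FaithfulSMul.algebraMap_injective (V'.left.presheaf.stalk (q.base w)) (((EtCoh.bc j).obj V').left.presheaf.stalk w)
    have hga : (V'.left.presheaf.germ ⊤ (q.base w) trivial).hom a = 1 := hinj (by
      rw [map_one]
      exact (congr($(Scheme.Hom.germ_stalkMap q ⊤ w trivial) a)).trans
        ((congrArg (((EtCoh.bc j).obj V').left.presheaf.germ ⊤ w trivial).hom hqa).trans (map_one (((EtCoh.bc j).obj V').left.presheaf.germ ⊤ w trivial).hom)))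
    obtain ⟨(O : V'.left.Opens), hvO, i₁, i₂, e⟩ := V'.left.presheaf.germ_eq (U := ⊤) (V := ⊤) (q.base w) trivial trivial a 1
      (hga.trans (map_one _).symm)
    let g := opensHom V' O
    obtain ⟨t'', ht'', -⟩ := GrothLib.EtBasicB.exists_fib_lift ξ g t' (⟨q.base w, hvO⟩ : O) ht'v.symm
    rw [← ht'', ← germ_map]
    refine (congrArg _ (ULift.ext _ _ (Additive.toMul.injective (Units.ext ?_)))).trans (map_zero _)
    change O.ι.appTop.hom a = 1
    rw [Scheme.Opens.ι_appTop]
    have e' : (V'.left.presheaf.map (homOfLE (le_top : O ≤ ⊤)).op).hom a = 1 :=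
      (congrArg (fun i : O ⟶ ⊤ => (V'.left.presheaf.map i.op).hom a) (Subsingleton.elim _ i₁)).trans
        (e.trans (map_one _))
    refine Eq.trans ?_ (map_one (O.topIso.inv.hom))
    rw [← e']
    simp
    rw [← CommRingCat.comp_apply, ← Functor.map_comp]
    exact congrArg (fun i => (V'.left.presheaf.map i).hom a) (Subsingleton.elim _ _)
  · obtain ⟨V, t, s, rfl⟩ := exists_germ ξ _ y
    let v := t.left.base (default : Spec (CommRingCat.of Ω))
    have hvx : V.hom.base v = x := (preimage_default ξ t).trans hξ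
    obtain ⟨O, hvO, hS⟩ := exists_fibre_subsingleton' x hx v hvx
    let V₁ := opensObj V O
    obtain ⟨t₁, ht₁, ht₁v⟩ := GrothLib.EtBasicB.exists_fib_lift ξ (opensHom V O) t (⟨v, hvO⟩ : O) rfl
    rw [← ht₁, ← germ_map]
    let q : ((EtCoh.bc j).obj V₁).left ⟶ V₁.left := pullback.fst V₁.hom j
    obtain ⟨w, hw, -⟩ := Scheme.Pullback.exists_preimage_pullback (f := V₁.hom) (g := j) (⟨v, hvO⟩ : O)
      (IsLocalRing.closedPoint (X.presheaf.stalk x)) (hvx.trans Scheme.fromSpecStalk_closedPoint.symm)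
    let s₁ : EtCoh.sect ((EtCoh.push j).obj (EtCoh.Gm _)) V₁ :=
      ((EtCoh.push j).obj (EtCoh.Gm (Spec (X.presheaf.stalk x)))).obj.map (opensHom V O).op s
    let b : Γ(((EtCoh.bc j).obj V₁).left, ⊤) :=
      ((Additive.toMul (show ULift.{u + 1} (Additive (Γ(((EtCoh.bc j).obj V₁).left, ⊤) : Type u)ˣ) from s₁).down : _ˣ) : Γ(((EtCoh.bc j).obj V₁).left, ⊤))
    have hb : IsUnit b := Units.isUnit _
    haveI : IsPreimmersion j := inferInstanceAs (IsPreimmersion (X.fromSpecStalk x))
    haveI : IsPreimmersion q := MorphismProperty.pullback_fst (P := @IsPreimmersion) _ _ inferInstance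
    obtain ⟨r, hr⟩ := q.stalkMap_surjective w ((((EtCoh.bc j).obj V₁).left.presheaf.germ ⊤ w trivial).hom b)
    haveI : IsLocalHom (q.stalkMap w).hom := q.toLRSHom.prop w
    have hru : IsUnit r := isUnit_of_map_unit (q.stalkMap w).hom r (hr ▸ hb.map _)
    obtain ⟨O₂, hwO₂, b₀, hb₀⟩ := V₁.left.presheaf.exists_germ_eq r
    obtain ⟨(O₃ : V₁.left.Opens), i₃, hwO₃, hu₃⟩ := V₁.left.toRingedSpace.isUnit_res_of_isUnit_germ O₂ b₀ (q.base w) hwO₂ (hb₀ ▸ hru)
    let V₂ := opensObj V₁ O₃
    let g := opensHom V₁ O₃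
    obtain ⟨t₂, ht₂, -⟩ := GrothLib.EtBasicB.exists_fib_lift ξ g t₁ (⟨q.base w, hwO₃⟩ : O₃) (hw.trans ht₁v.symm)
    let c : Γ(O₃.toScheme, ⊤) := O₃.topIso.inv.hom (V₁.left.presheaf.map i₃.op b₀)
    have hc : IsUnit c := IsUnit.map _ hu₃
    let z : EtCoh.sect (EtCoh.Gm X) V₂ :=
      (ULift.up (Additive.ofMul hc.unit) : ULift.{u + 1} (Additive (Γ(O₃.toScheme, ⊤) : Type u)ˣ))
    refine ⟨germ ξ _ t₂ z, ?_⟩
    rw [stalk_map_germ, ← ht₂, ← germ_map]
    refine congrArg _ (ULift.ext _ _ (Additive.toMul.injective (Units.ext ?_)))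
    let q₂ : ((EtCoh.bc j).obj V₂).left ⟶ O₃.toScheme := pullback.fst V₂.hom j
    let bg : ((EtCoh.bc j).obj V₂).left ⟶ ((EtCoh.bc j).obj V₁).left := ((EtCoh.bc j).map g).left
    change q₂.appTop.hom c = bg.appTop.hom b
    have hsq : bg ≫ q = q₂ ≫ O₃.ι := (EtCoh.isPullback_bc_map j g).w
    refine TopCat.Presheaf.section_ext ((EtCoh.bc j).obj V₂).left.sheaf ⊤ _ _ fun p _ => ?_
    change (((EtCoh.bc j).obj V₂).left.presheaf.germ ⊤ p trivial).hom (q₂.appTop.hom c) =
      (((EtCoh.bc j).obj V₂).left.presheaf.germ ⊤ p trivial).hom (bg.appTop.hom b)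
    have hp : bg.base p = w := Subsingleton.elim (h := hS) _ _
    subst hp
    refine ((congr($(Scheme.Hom.germ_stalkMap q₂ ⊤ p trivial) c)).symm.trans (Eq.trans ?_
      (congr($(Scheme.Hom.germ_stalkMap bg ⊤ p trivial) b))))
    change _ = (bg.stalkMap p).hom _
    refine Eq.trans ?_ (congrArg (bg.stalkMap p).hom hr)
    rw [← hb₀]
    have hcongr : ∀ {f₁ f₂ : ((EtCoh.bc j).obj V₂).left ⟶ V₁.left} (_ : f₁ = f₂) (h₁ : f₁.base p ∈ O₂) (h₂ : f₂.base p ∈ O₂),
        (f₁.stalkMap p).hom ((V₁.left.presheaf.germ O₂ (f₁.base p) h₁).hom b₀) =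
          (f₂.stalkMap p).hom ((V₁.left.presheaf.germ O₂ (f₂.base p) h₂).hom b₀) := by
      rintro f₁ f₂ rfl h₁ h₂
      rfl
    have hmem : (q₂ ≫ O₃.ι).base p ∈ O₂ := by rw [← hsq]; exact hwO₂
    refine Eq.trans ?_ ((hcongr hsq.symm hmem hwO₂).trans (congr($(Scheme.Hom.stalkMap_comp bg q p) _)))
    refine Eq.trans ?_ (congr($(Scheme.Hom.stalkMap_comp q₂ O₃.ι p) _)).symm
    rw [CommRingCat.comp_apply]
    refine congrArg (q₂.stalkMap p).hom ?_
    refine Eq.trans ?_ (congr($(Scheme.Hom.germ_stalkMap O₃.ι O₂ (q₂.base p) hmem) b₀)).symm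
    refine Eq.trans ?_ (O₃.toScheme.presheaf.germ_res_apply
      (homOfLE fun z _ => i₃.le z.2 : (⊤ : O₃.toScheme.Opens) ⟶ O₃.ι ⁻¹ᵁ O₂) (q₂.base p) trivial _)
    refine congrArg _ ?_
    simp [c]
    refine Eq.trans ?_ (ConcreteCategory.comp_apply (V₁.left.presheaf.map (homOfLE _).op) (V₁.left.presheaf.map (homOfLE _).op) b₀)
    refine (ConcreteCategory.comp_apply (V₁.left.presheaf.map i₃.op) (V₁.left.presheaf.map (eqToHom _)) b₀).symm.trans ?_
    rw [← Functor.map_comp, ← Functor.map_comp]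
    exact congrArg (fun i => (V₁.left.presheaf.map i).hom b₀) (Subsingleton.elim _ _)

end GrothLib.CdOne18
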