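import Groth.Agent.Lib.CdOne18.Curve
import Groth.Agent.Lib.CdOne18.GmStalk
import Groth.Agent.Lib.CdOne18.Discrete
import Groth.Agent.Lib.EtBasicB.RootCover
import Mathlib.AlgebraicGeometry.Morphisms.QuasiFinite

/-!
# Primary torsion in the cohomology of `𝔾ₘ` on noetherian curves
-/

set_option autoImplicit false
set_option backward.isDefEq.respectTransparency false
set_option backward.isDefEq.respectTransparency.types false
set_option linter.style.haveILetI false
set_option linter.all false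

universe u

open CategoryTheory CategoryTheory.Limits CategoryTheory.Abelian AlgebraicGeometry Opposite
open GrothLib.EtSite GrothLib.EtTrace21 GrothLib.GalCd GrothLib.EtColim GrothLib.CdBr2

noncomputable section

namespace GrothLib.CdOne18

variable {X : Scheme.{u}} [AlgebraicGeometry.IsNoetherian X]

/-- A class killed by a map which is an isomorphism away from closed points is zero. -/
theorem eq_zero_of_comp_eq_zero (hsep : ∀ x : X, IsClosed ({x} : Set X) → IsSepClosed (X.residueField x))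
    {F P : EtCoh.Ab X} (φ : F ⟶ P)
    (hiso : ∀ (Ω : Type u) [Field Ω] [IsSepClosed Ω] (ξ : Spec (CommRingCat.of Ω) ⟶ X),
      ¬ IsClosed ({ξ.base (default : Spec (CommRingCat.of Ω))} : Set X) → IsIso ((EtCoh.stalk ξ).map φ))
    (q : ℕ) (a : EtCoh.H X F (q + 2)) (ha : Ext.comp a (Ext.mk₀ φ) (add_zero (q + 2)) = 0) : a = 0 := by
  let K := ShortComplex.mk (kernel.ι φ) (Abelian.factorThruImage φ) (by
    rw [← cancel_mono (Abelian.image.ι φ), Category.assoc, Abelian.image.fac, kernel.condition, zero_comp])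
  have hK : K.ShortExact := by
    refine { exact := K.exact_of_f_is_kernel ?_ }
    exact isKernelOfComp (Abelian.image.ι φ) φ (kernelIsKernel φ) K.zero (Abelian.image.fac φ)
  let C := ShortComplex.mk (Abelian.image.ι φ) (cokernel.π φ) (kernel.condition _)
  have hC : C.ShortExact := { exact := C.exact_of_f_is_kernel (kernelIsKernel _) }
  have hQ1 : ∀ (Ω : Type u) [Field Ω] [IsSepClosed Ω] (ξ : Spec (CommRingCat.of Ω) ⟶ X),
      ¬ IsClosed ({ξ.base (default : Spec (CommRingCat.of Ω))} : Set X) → IsZero ((EtCoh.stalk ξ).obj C.X₃) := by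
    intro Ω _ _ ξ hnc
    haveI := hiso Ω ξ hnc
    refine IsZero.of_epi_eq_zero ((EtCoh.stalk ξ).map (cokernel.π φ)) ?_
    rw [← cancel_epi ((EtCoh.stalk ξ).map φ), ← Functor.map_comp, cokernel.condition, Functor.map_zero, comp_zero]
  have hQ2 : ∀ (Ω : Type u) [Field Ω] [IsSepClosed Ω] (ξ : Spec (CommRingCat.of Ω) ⟶ X),
      ¬ IsClosed ({ξ.base (default : Spec (CommRingCat.of Ω))} : Set X) → IsZero ((EtCoh.stalk ξ).obj K.X₁) := by
    intro Ω _ _ ξ hnc
    haveI := hiso Ω ξ hnc
    refine IsZero.of_mono_eq_zero ((EtCoh.stalk ξ).map (kernel.ι φ)) ?_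
    rw [← cancel_mono ((EtCoh.stalk ξ).map φ), ← Functor.map_comp, kernel.condition, Functor.map_zero, zero_comp]
  have h1 : Ext.comp a (Ext.mk₀ K.g) (add_zero (q + 2)) = 0 := by
    have h0 : Ext.comp (Ext.comp a (Ext.mk₀ K.g) (add_zero (q + 2))) (Ext.mk₀ C.f) (add_zero (q + 2)) = 0 := by
      rw [Ext.comp_assoc_of_third_deg_zero, Ext.mk₀_comp_mk₀]
      exact (congrArg (fun c => Ext.comp a (Ext.mk₀ c) (add_zero (q + 2))) (Abelian.image.fac φ)).trans ha
    obtain ⟨w, hw⟩ := Ext.covariant_sequence_exact₁ _ hC _ h0 (rfl : q + 1 + 1 = q + 2)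
    rw [← hw, H_eq_zero_of_supp_closedPts hsep _ hQ1 (q + 1) (by omega) w, Ext.zero_comp]
  obtain ⟨z, rfl⟩ := Ext.covariant_sequence_exact₂ _ hK a h1
  rw [H_eq_zero_of_supp_closedPts hsep _ hQ2 (q + 2) (by omega) z, Ext.zero_comp]

omit [AlgebraicGeometry.IsNoetherian X] in
/-- Sheaves on the local scheme at a maximal point. -/
theorem killZero_specStalk (x : X) (hx : ∀ y, y ⤳ x → y = x) {N : ℕ} (hκ : KillZero (X.residueField x : Type u) N)
    (G : EtCoh.Ab (Spec (X.presheaf.stalk x))) (hG : N • 𝟙 G = 0) (r : ℕ) (hr : 2 ≤ r)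
    (y : EtCoh.H (Spec (X.presheaf.stalk x)) G r) : y = 0 := by
  let i := Spec.map (X.residue x)
  haveI := subsingleton_specStalk x hx
  haveI : IsClosedImmersion i := IsClosedImmersion.spec_of_surjective _ (X.residue_surjective x)
  haveI : Surjective i := ⟨fun a => ⟨(default : Spec (X.residueField x)), Subsingleton.elim _ _⟩⟩
  haveI := GrothLib.EtDer.pullFL i
  haveI : (EtCoh.pull i).Additive := Functor.additive_of_preserves_binary_products _
  apply (Groth.Agent.S0642.result i G r).1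
  rw [map_zero]
  exact hκ _ (killed_map (EtCoh.pull i) hG) r hr _

omit [AlgebraicGeometry.IsNoetherian X] in
theorem discreteTopology_etale_specStalk (x : X) (hx : ∀ y, y ⤳ x → y = x) (W : (Spec (X.presheaf.stalk x)).Etale) :
    DiscreteTopology W.left := by
  haveI := subsingleton_specStalk x hx
  haveI : Etale W.hom := W.prop
  haveI : LocallyQuasiFinite W.hom := GrothLib.EtBasicB.locallyQuasiFinite_of_unramified _
  have h := W.hom.isDiscrete_preimage_singleton (IsLocalRing.closedPoint (X.presheaf.stalk x))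
  rw [show W.hom.base ⁻¹' {IsLocalRing.closedPoint (X.presheaf.stalk x)} = Set.univ from
    Set.eq_univ_of_forall fun w => (subsingleton_specStalk x hx).elim (W.hom.base w) _] at h
  exact isDiscrete_univ_iff.1 h

omit [AlgebraicGeometry.IsNoetherian X] in
theorem isUnit_stalk_of_invertible {N : ℕ} (hN : Dix.InvertibleOn X N) (x : X) : IsUnit (N : X.presheaf.stalk x) := by
  by_contra hu
  refine hN x ?_
  rw [← map_natCast (X.residue x).hom N]
  exact (IsLocalRing.residue_eq_zero_iff _).2 ((IsLocalRing.mem_maximalIdeal _).2 hu)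

/-- No primary torsion in degrees at least two. -/
theorem primary_H_Gm_eq_zero (hdim : topologicalKrullDim X ≤ 1)
    (hsep : ∀ x : X, IsClosed ({x} : Set X) → IsSepClosed (X.residueField x))
    (N : ℕ) (hN : Dix.InvertibleOn X N) (hκ : ∀ x : MaxPts X, KillZero (X.residueField x.1 : Type u) N)
    (i : ℕ) (hi : 2 ≤ i) (ξ : EtCoh.H X (EtCoh.Gm X) i) (hξ : N • ξ = 0) : ξ = 0 := by
  classical
  rcases Nat.lt_or_ge i 3 with h2 | h3
  swap
  · refine eq_zero_of_nsmul_eq_zero (EtCoh.Gm X) N 2 (fun G hG r hr y => ?_) i ξ hξ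
      (Or.inr ⟨h3, GrothLib.EtBasicB.powMap_epi X N ?_⟩)
    · obtain ⟨q, rfl⟩ : ∃ q, r = q + 3 := ⟨r - 3, by omega⟩
      exact H_eq_zero_of_killed hdim hsep hκ G hG q y
    · exact X.toRingedSpace.isUnit_of_isUnit_germ ⊤ (N : Γ(X, ⊤)) fun x hx => by
        rw [map_natCast]
        exact isUnit_stalk_of_invertible hN x
  obtain rfl : i = 2 := by omega
  haveI : Fintype (MaxPts X) := Fintype.ofFinite _
  let A : MaxPts X → Scheme.{u} := fun x => Spec (X.presheaf.stalk x.1)
  let G : MaxPts X → EtCoh.Ab X := fun x => (EtCoh.push (X.fromSpecStalk x.1)).obj (EtCoh.Gm (A x))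
  let φ : EtCoh.Gm X ⟶ ⨁ G := biproduct.lift fun x => EtLim.GmPush (X.fromSpecStalk x.1)
  have htot : ∑ j, biproduct.π G j ≫ biproduct.ι G j = 𝟙 (⨁ G) := IsBilimit.total (biproduct.isBilimit G)
  refine eq_zero_of_comp_eq_zero hsep φ (fun Ω _ _ η hnc => ?_) 0 ξ ?_
  · let x₀ := η.base (default : Spec (CommRingCat.of Ω))
    let i₀ : MaxPts X := ⟨x₀, fun y hy => maximal_of_not_isClosed hdim x₀ hnc y hy⟩
    have hzero : ∀ i : MaxPts X, i ≠ i₀ → IsZero ((EtCoh.stalk η).obj (G i)) := fun i hi =>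
      isZero_stalk_push_specStalk i.1 i.2 η (fun hs => hi (Subtype.ext (i₀.2 _ hs))) _
    haveI : IsIso ((EtCoh.stalk η).map (biproduct.π G i₀)) := by
      refine ⟨(EtCoh.stalk η).map (biproduct.ι G i₀), ?_, ?_⟩
      · rw [← Functor.map_comp, ← CategoryTheory.Functor.map_id, ← htot, Functor.map_sum, Finset.sum_eq_single i₀]
        · intro i _ hi
          rw [Functor.map_comp, (hzero i hi).eq_of_tgt ((EtCoh.stalk η).map (biproduct.π G i)) 0, zero_comp]
        · exact fun h => absurd (Finset.mem_univ _) h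
      · rw [← Functor.map_comp, biproduct.ι_π_self, CategoryTheory.Functor.map_id]
    haveI : IsIso ((EtCoh.stalk η).map (EtLim.GmPush (X.fromSpecStalk i₀.1))) :=
      (ConcreteCategory.isIso_iff_bijective _).2 (bijective_stalk_GmPush i₀.1 i₀.2 η rfl)
    have e : (EtCoh.stalk η).map φ ≫ (EtCoh.stalk η).map (biproduct.π G i₀) =
        (EtCoh.stalk η).map (EtLim.GmPush (X.fromSpecStalk i₀.1)) := by
      rw [← Functor.map_comp, biproduct.lift_π]
    exact IsIso.of_isIso_fac_right e
  · have hcomp : ∀ x : MaxPts X, Ext.comp ξ (Ext.mk₀ (φ ≫ biproduct.π G x)) (add_zero 2) = 0 := by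
      intro x
      let j := X.fromSpecStalk x.1
      haveI := GrothLib.EtDer.pullFL j
      refine injective_HofPush_two j _ (isZero_Rpush_one_Gm_of_discrete j
        (discreteTopology_etale_specStalk x.1 x.2)) ?_
      rw [map_zero]
      refine eq_zero_of_nsmul_eq_zero (EtCoh.Gm (A x)) N 1
        (fun H hH r hr y => killZero_specStalk x.1 x.2 (hκ x) H hH r hr y) 2 _ ?_
        (Or.inr ⟨Nat.one_lt_two, GrothLib.EtBasicB.powMap_epi (A x) N ?_⟩)
      · rw [← map_nsmul, ← comp_nsmul_id, Ext.comp_assoc_of_third_deg_zero, Ext.mk₀_comp_mk₀,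
          Preadditive.comp_nsmul, Category.comp_id]
        have e : Ext.comp ξ (Ext.mk₀ (N • (φ ≫ biproduct.π G x))) (add_zero 2) = 0 := by
          have e0 : N • (φ ≫ biproduct.π G x) = (N • 𝟙 (EtCoh.Gm X)) ≫ (φ ≫ biproduct.π G x) := by
            rw [Preadditive.nsmul_comp, Category.id_comp]
          rw [e0, ← Ext.mk₀_comp_mk₀, ← Ext.comp_assoc_of_third_deg_zero, comp_nsmul_id, hξ, Ext.zero_comp]
        rw [e, map_zero]
      · simpa using (isUnit_stalk_of_invertible hN x.1).map (Scheme.ΓSpecIso (X.presheaf.stalk x.1)).inv.hom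
    have e : φ = ∑ i, (φ ≫ biproduct.π G i) ≫ biproduct.ι G i := by
      simp only [Category.assoc, ← Preadditive.comp_sum]
      rw [htot, Category.comp_id]
    rw [e, Ext.mk₀_sum, Ext.comp_sum]
    refine Finset.sum_eq_zero fun i _ => ?_
    rw [← Ext.mk₀_comp_mk₀, ← Ext.comp_assoc_of_third_deg_zero, hcomp, Ext.zero_comp]

end GrothLib.CdOne18
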