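import Groth.Agent.Lib.CdBr2.Torsion
import Groth.Agent.S0642

/-!
# Noetherian curves whose maximal points have cohomological dimension at most one at given primes
-/

set_option autoImplicit false
set_option backward.isDefEq.respectTransparency false
set_option backward.isDefEq.respectTransparency.types false
set_option linter.style.haveILetI false
set_option linter.all false

universe u

open CategoryTheory CategoryTheory.Limits CategoryTheory.Abelian AlgebraicGeometry Opposite
open GrothLib.EtSite GrothLib.EtTrace21 GrothLib.GalCd GrothLib.EtColim GrothLib.CdBr2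

noncomputable section

namespace GrothLib.CdOne18

/-- Sheaves killed by `N` have no cohomology in degrees at least two. -/
def KillZero (K : Type u) [Field K] (N : ℕ) : Prop :=
  ∀ G : EtCoh.Ab (Spec (CommRingCat.of K)), N • 𝟙 G = 0 → ∀ r : ℕ, 2 ≤ r →
    ∀ y : EtCoh.H (Spec (CommRingCat.of K)) G r, y = 0

theorem killed_map {A B : Scheme.{u}} (L : EtCoh.Ab A ⥤ EtCoh.Ab B) [L.Additive] {N : ℕ} {G : EtCoh.Ab A}
    (h : N • 𝟙 G = 0) : N • 𝟙 (L.obj G) = 0 := by
  rw [← CategoryTheory.Functor.map_id, ← Functor.map_nsmul, h, Functor.map_zero]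

theorem killZero_ext {k : Type u} [Field k] {N : ℕ} (h : KillZero k N) (K : Type u) [Field K] [Algebra k K]
    [Algebra.IsSeparable k K] : KillZero K N := by
  intro G hG r hr y
  let f := Spec.map (CommRingCat.ofHom (algebraMap k K))
  haveI : IsIntegralHom f :=
    IsIntegralHom.SpecMap_iff.2 fun a => (Algebra.IsAlgebraic.isAlgebraic (R := k) a).isIntegral
  haveI := GrothLib.EtDer.pullFL f
  haveI : PreservesFiniteLimits (EtCoh.push f) :=
    ((EtCoh.pullPushAdj f).rightAdjoint_preservesLimits : PreservesLimitsOfSize.{0, 0} _).preservesFiniteLimits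
  haveI : (EtCoh.push f).Additive := Functor.additive_of_preserves_binary_products _
  obtain ⟨z, rfl⟩ :=
    (Groth.Agent.S14451.result f G (fun i hi => GrothLib.EtSite.isZero_Rpush_of_integral f G i hi) r).2 y
  rw [h _ (killed_map (EtCoh.push f) hG) r hr z, map_zero]

theorem killZero_of_cohDimLEAt {K : Type u} [Field K] {ℓ : ℕ}
    (h : Dix.CohDimLEAt (Spec (CommRingCat.of K)) ℓ 1) (v : ℕ) : KillZero K (ℓ ^ v) := by
  intro G hG r hr y
  haveI := h G (fun U s w => ⟨U, 𝟙 U, ⟨w, rfl⟩, v, GrothLib.EtTrace21.nsmul_sect hG _⟩) r hr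
  exact Subsingleton.elim _ _

variable {X : Scheme.{u}} [AlgebraicGeometry.IsNoetherian X]

/-- `H^q`, `q ≥ 3`, of the direct image of a torsion sheaf from a maximal point vanishes. -/
theorem H_push_maxPt_eq_zero (hdim : topologicalKrullDim X ≤ 1)
    (hsep : ∀ x : X, IsClosed ({x} : Set X) → IsSepClosed (X.residueField x))
    (x : X) (hx : ∀ y, y ⤳ x → y = x) {N : ℕ} (hκ : KillZero (X.residueField x : Type u) N)
    (G : EtCoh.Ab (Spec (X.residueField x))) (hG : N • 𝟙 G = 0) (q : ℕ)
    (a : EtCoh.H X ((EtCoh.push (X.fromSpecResidueField x)).obj G) (q + 3)) : a = 0 := by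
  let f := X.fromSpecResidueField x
  let S := injS G
  have hS := injS_shortExact G
  haveI : Injective S.X₂ := inferInstanceAs (Injective (Injective.under G))
  haveI : Injective ((EtCoh.push f).obj S.X₂) := GrothLib.EtDer.injective_push f S.X₂
  haveI : PreservesFiniteLimits (EtCoh.push f) :=
    ((EtCoh.pullPushAdj f).rightAdjoint_preservesLimits : PreservesLimitsOfSize.{0, 0} _).preservesFiniteLimits
  haveI : Mono ((EtCoh.push f).map S.f) := (EtCoh.push f).map_mono S.f
  let m := (EtCoh.push f).map S.f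
  let T := ShortComplex.mk m (cokernel.π m) (cokernel.condition m)
  have hT : T.ShortExact := { exact := T.exact_of_g_is_cokernel (cokernelIsCokernel _) }
  have hex := hS.exact.map_of_mono_of_preservesKernel (EtCoh.push f) inferInstance inferInstance
  obtain ⟨c, rfl⟩ := Ext.covariant_sequence_exact₁ _ hT a
    (@Ext.eq_zero_of_injective _ _ _ _ _ _ _ (inferInstanceAs (Injective ((EtCoh.push f).obj S.X₂))) _) (rfl : q + 2 + 1 = q + 3)
  let b : T.X₃ ⟶ (EtCoh.push f).obj S.X₃ := cokernel.desc m ((EtCoh.push f).map S.g)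
    (by rw [← Functor.map_comp, S.zero, Functor.map_zero])
  haveI : Mono b := hex.mono_cokernelDesc
  let R := ShortComplex.mk b (cokernel.π b) (cokernel.condition b)
  have hR : R.ShortExact := { exact := R.exact_of_g_is_cokernel (cokernelIsCokernel _) }
  have hC : ∀ (Ω : Type u) [Field Ω] [IsSepClosed Ω] (ξ : Spec (CommRingCat.of Ω) ⟶ X),
      ¬ IsClosed ({ξ.base (default : Spec (CommRingCat.of Ω))} : Set X) → IsZero ((EtCoh.stalk ξ).obj R.X₃) := by
    intro Ω _ _ ξ hnc
    haveI : Epi R.g := inferInstanceAs (Epi (cokernel.π b))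
    refine IsZero.of_epi_eq_zero ((EtCoh.stalk ξ).map R.g) ?_
    by_cases hξ : ξ.base (default : Spec (CommRingCat.of Ω)) = x
    · obtain ⟨ζ, hζ⟩ : ∃ ζ, ζ ≫ f = ξ := exists_lift_residue ξ x hξ
      haveI hcI : ∀ H : EtCoh.Ab (Spec (X.residueField x)), IsIso ((EtCoh.pullPushAdj f).counit.app H) :=
        fun H => isIso_counit_maxPt x hx H
      haveI : Epi S.g := hS.epi_g
      haveI : Epi ((EtCoh.pull f).map ((EtCoh.push f).map S.g)) := by
        have hnat : (EtCoh.pull f).map ((EtCoh.push f).map S.g) ≫ (EtCoh.pullPushAdj f).counit.app S.X₃ =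
            (EtCoh.pullPushAdj f).counit.app S.X₂ ≫ S.g := (EtCoh.pullPushAdj f).counit.naturality S.g
        have e : (EtCoh.pull f).map ((EtCoh.push f).map S.g) =
            (EtCoh.pullPushAdj f).counit.app S.X₂ ≫ S.g ≫ inv ((EtCoh.pullPushAdj f).counit.app S.X₃) := by
          rw [← Category.assoc, ← hnat, Category.assoc, IsIso.hom_inv_id, Category.comp_id]
        rw [e]
        infer_instance
      haveI : Epi ((EtCoh.stalk ζ).map ((EtCoh.pull f).map ((EtCoh.push f).map S.g))) := inferInstance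
      subst hζ
      haveI : Epi ((EtCoh.stalk (ζ ≫ f)).map ((EtCoh.push f).map S.g)) := by
        have e : (EtCoh.stalk (ζ ≫ f)).map ((EtCoh.push f).map S.g) =
            (pullStalkIso ζ f).inv.app _ ≫ (EtCoh.stalk ζ).map ((EtCoh.pull f).map ((EtCoh.push f).map S.g)) ≫
              (pullStalkIso ζ f).hom.app _ := by
          have hn := (pullStalkIso ζ f).hom.naturality ((EtCoh.push f).map S.g)
          rw [show (EtCoh.stalk ζ).map ((EtCoh.pull f).map ((EtCoh.push f).map S.g)) ≫
              (pullStalkIso ζ f).hom.app ((EtCoh.push f).obj S.X₃) = _ from hn]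
          exact (Iso.inv_hom_id_app_assoc (pullStalkIso ζ f) _ _).symm
        rw [e]
        infer_instance
      rw [← cancel_epi ((EtCoh.stalk (ζ ≫ f)).map ((EtCoh.push f).map S.g)), comp_zero, ← Functor.map_comp]
      have e2 : (EtCoh.push f).map S.g = cokernel.π m ≫ b := (cokernel.π_desc _ _ _).symm
      change (EtCoh.stalk (ζ ≫ f)).map ((EtCoh.push f).map S.g ≫ cokernel.π b) = 0
      rw [e2, Category.assoc, cokernel.condition, comp_zero, Functor.map_zero]
    · exact (isZero_stalk_push_of_not_specializes x ξ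
        (not_specializes_of_ne hdim x _ hx hnc hξ) _).eq_of_src _ _
  haveI := GrothLib.EtDer.pullFL f
  have hRp : ∀ r : ℕ, 0 < r → IsZero ((EtCoh.Rpush f r).obj S.X₃) := by
    intro r hr
    obtain ⟨r', rfl⟩ : ∃ r', r = r' + 1 := ⟨r - 1, by omega⟩
    refine isZero_Rpush_of_fields (k := (X.residueField x : Type u)) f r' _ fun K _ _ _ _ _ _ i hi => ⟨fun c₁ c₂ => ?_⟩
    let j := specMap (X.residueField x : Type u) K
    haveI := GrothLib.EtDer.pullFL j
    haveI : PreservesFiniteLimits (EtShriek.restrAlong j) :=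
      preservesFiniteLimits_of_natIso (GrothLib.ExtZero.restrIsoPull j).symm
    haveI : PreservesFiniteColimits (EtShriek.restrAlong j) :=
      preservesFiniteColimits_of_natIso (GrothLib.ExtZero.restrIsoPull j).symm
    haveI : (EtShriek.restrAlong j).Additive := Functor.additive_of_preserves_binary_products _
    have hSj : (S.map (EtShriek.restrAlong j)).ShortExact := hS.map_of_exact _
    haveI := GrothLib.ExtZero.preservesFiniteLimits_extZero j
    haveI : (EtShriek.extZero j).PreservesMonomorphisms := preservesMonomorphisms_of_preservesLimitsOfShape _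
    haveI : Injective (S.map (EtShriek.restrAlong j)).X₂ :=
      Injective.injective_of_adjoint (EtShriek.extZeroAdj j) S.X₂
    suffices hz : ∀ c : EtCoh.H _ ((EtShriek.restrAlong j).obj S.X₃) i, c = 0 from (hz c₁).trans (hz c₂).symm
    intro c
    obtain ⟨r, rfl⟩ : ∃ r, i = r + 1 := ⟨i - 1, by omega⟩
    obtain ⟨y, hy⟩ := Ext.covariant_sequence_exact₃ _ hSj c rfl
      (killZero_ext hκ K _ (killed_map (EtShriek.restrAlong j) hG) (r + 1 + 1) (by omega) _)
    rw [← hy, Ext.eq_zero_of_injective y, Ext.zero_comp]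
  have hX3 : ∀ z : EtCoh.H (Spec (X.residueField x)) S.X₃ (q + 2), z = 0 := fun z => by
    obtain ⟨y, hy⟩ := Ext.covariant_sequence_exact₃ _ hS z rfl (hκ G hG (q + 2 + 1) (by omega) _)
    rw [← hy, Ext.eq_zero_of_injective y, Ext.zero_comp]
  have h0 : Ext.comp c (Ext.mk₀ R.f) (add_zero (q + 2)) = 0 :=
    (Groth.Agent.S14451.result f S.X₃ hRp (q + 2)).1 ((hX3 _).trans (hX3 _).symm)
  obtain ⟨w, rfl⟩ := Ext.covariant_sequence_exact₁ _ hR c h0 (rfl : q + 1 + 1 = q + 2)
  rw [H_eq_zero_of_supp_closedPts hsep _ hC (q + 1) (by omega) w, Ext.zero_comp, Ext.zero_comp]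

/-- Sheaves killed by `N` have no cohomology in degrees at least three. -/
theorem H_eq_zero_of_killed (hdim : topologicalKrullDim X ≤ 1)
    (hsep : ∀ x : X, IsClosed ({x} : Set X) → IsSepClosed (X.residueField x))
    {N : ℕ} (hκ : ∀ x : MaxPts X, KillZero (X.residueField x.1 : Type u) N)
    (F : EtCoh.Ab X) (hF : N • 𝟙 F = 0) (q : ℕ) (a : EtCoh.H X F (q + 3)) : a = 0 := by
  refine H_eq_zero_of_components hdim hsep F (q + 1) (fun x b => ?_) a
  let f := X.fromSpecResidueField x.1
  haveI := GrothLib.EtDer.pullFL f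
  haveI : (EtCoh.pull f).Additive := Functor.additive_of_preserves_binary_products _
  exact H_push_maxPt_eq_zero hdim hsep x.1 x.2 (hκ x) _ (killed_map (EtCoh.pull f) hF) q b

/-- The same for a product of primes. -/
theorem H_eq_zero_of_killed_primes (hdim : topologicalKrullDim X ≤ 1)
    (hsep : ∀ x : X, IsClosed ({x} : Set X) → IsSepClosed (X.residueField x))
    (n : ℕ) (hn : n ≠ 0) (hκ : ∀ p : ℕ, p.Prime → p ∣ n → ∀ x : MaxPts X, KillZero (X.residueField x.1 : Type u) p)
    (F : EtCoh.Ab X) (hF : n • 𝟙 F = 0) (r : ℕ) (hr : 3 ≤ r) (a : EtCoh.H X F r) : a = 0 := by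
  induction n using Nat.strong_induction_on generalizing F with
  | _ n ih =>
    by_cases h1 : n = 1
    · rw [h1, one_smul] at hF
      rw [← Ext.comp_mk₀_id a, hF]
      simp
    obtain ⟨p, hp, m, rfl⟩ := Nat.exists_prime_and_dvd h1
    have hm : m ≠ 0 := right_ne_zero_of_mul hn
    let T := ShortComplex.mk (kernel.ι (p • 𝟙 F)) (cokernel.π (kernel.ι (p • 𝟙 F))) (cokernel.condition _)
    have hT : T.ShortExact := { exact := T.exact_of_g_is_cokernel (cokernelIsCokernel _) }
    let b : T.X₃ ⟶ F := Abelian.factorThruCoimage (p • 𝟙 F)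
    have hb : T.g ≫ b = p • 𝟙 F := Abelian.coimage.fac _
    haveI : Mono b := inferInstanceAs (Mono (Abelian.factorThruCoimage _))
    have hQ : m • 𝟙 T.X₃ = 0 := by
      haveI : Epi T.g := hT.epi_g
      rw [← cancel_mono b, ← cancel_epi T.g, Preadditive.nsmul_comp, Category.id_comp, Preadditive.comp_nsmul, hb,
        zero_comp, comp_zero, ← mul_nsmul', mul_comm m p, hF]
    have hK : p • 𝟙 T.X₁ = 0 := by
      rw [← cancel_mono (kernel.ι (p • 𝟙 F)), Preadditive.nsmul_comp, Category.id_comp, zero_comp]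
      have := kernel.condition (p • 𝟙 F)
      rwa [Preadditive.comp_nsmul, Category.comp_id] at this
    obtain ⟨w, hw⟩ := Ext.covariant_sequence_exact₂ _ hT a
      (ih m (lt_mul_left (Nat.pos_of_ne_zero hm) hp.one_lt) hm
        (fun p' hp' hd => hκ p' hp' (hd.mul_left p)) T.X₃ hQ _)
    obtain ⟨q, rfl⟩ : ∃ q, r = q + 3 := ⟨r - 3, by omega⟩
    rw [← hw, H_eq_zero_of_killed hdim hsep (hκ p hp (dvd_mul_right p m)) _ hK q w, Ext.zero_comp]

omit [AlgebraicGeometry.IsNoetherian X] in
theorem mem_components_of_max {x : X} (hx : ∀ y, y ⤳ x → y = x) :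
    closure ({x} : Set X) ∈ irreducibleComponents (X : Type u) := by
  refine ⟨isIrreducible_singleton.closure, fun s hs hle => ?_⟩
  have hc : IsClosed (closure s) := isClosed_closure
  have hi : IsIrreducible (closure s) := hs.closure
  obtain ⟨g, hg⟩ := QuasiSober.sober hi hc
  have hgx : g ⤳ x := hg.specializes (subset_closure (hle (subset_closure rfl)))
  rw [hx g hgx] at hg
  exact subset_closure.trans hg.def.symm.le

omit [AlgebraicGeometry.IsNoetherian X] in
theorem killed_mu (n : ℕ) : n • 𝟙 (EtCoh.mu X n) = 0 := by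
  haveI : Mono (EtCoh.muι X n) := inferInstanceAs (Mono (kernel.ι _))
  rw [← cancel_mono (EtCoh.muι X n), Preadditive.nsmul_comp, Category.id_comp, zero_comp]
  have := kernel.condition (EtCoh.powMap X n)
  rwa [EtCoh.powMap, Preadditive.comp_nsmul, Category.comp_id] at this

end GrothLib.CdOne18
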